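import Groth.Agent.L05.EulerDiv.Seq
import Groth.Agent.L03.Euler.Poly
import Groth.Agent.L03.Euler.Push
import Groth.Agent.L03.ShStab.Trunc
import Groth.Agent.L13.PointBlow.Twist
import Groth.Agent.L03.BlowPt.QuotSeq
import Groth.Agent.L17.ProjFormula
import Groth.Agent.L17.ClosedPush
import Groth.Agent.L29.DCoh.PullTensor
import Groth.Agent.L16.CohClosedPush
import Groth.Agent.L16.Exist.PushPull
import Mathlib.CategoryTheory.Abelian.ShortExact
import Mathlib.CategoryTheory.Adjunction.FullyFaithful

/-!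
# The Euler characteristic of a closed subscheme cut out by a power of an invertible ideal

If `P ⊆ X` is proper over a field and cut out by `I ^ m`, where `I` is invertible and `I ^ m` is trivial as
a module, then `m` divides `χ(P, O)`.
-/

set_option autoImplicit false
set_option backward.isDefEq.respectTransparency false
set_option linter.style.haveILetI false
set_option linter.unusedSectionVars false
universe u

open CategoryTheory CategoryTheory.Limits AlgebraicGeometry TopologicalSpace

noncomputable section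

namespace Groth.L05.EulerDiv

open Groth.L00.Tensor (tensorIso tensorUnitLeft tensorUnitRight)

/-- Short exact sequences of modules on the ambient scheme which are supported, with scheme structure, on a
closed subscheme come from short exact sequences on the closed subscheme. -/
theorem exists_shortExact_preimage {P X : Scheme.{u}} (ι : P ⟶ X) [IsClosedImmersion ι]
    {S : ShortComplex X.Modules} (hS : S.ShortExact) {N₁ N₂ N₃ : P.Modules}
    (e₁ : (Scheme.Modules.pushforward ι).obj N₁ ≅ S.X₁) (e₂ : (Scheme.Modules.pushforward ι).obj N₂ ≅ S.X₂)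
    (e₃ : (Scheme.Modules.pushforward ι).obj N₃ ≅ S.X₃) :
    ∃ (f : N₁ ⟶ N₂) (g : N₂ ⟶ N₃) (w : f ≫ g = 0), (ShortComplex.mk f g w).ShortExact := by
  let F := Scheme.Modules.pushforward ι
  haveI : IsIso (Scheme.Modules.pullbackPushforwardAdjunction ι).counit := Groth.L17.ClosedPush.isIso_counit ι
  let hF : F.FullyFaithful := (Scheme.Modules.pullbackPushforwardAdjunction ι).fullyFaithfulROfIsIsoCounit
  haveI : F.Faithful := hF.faithful
  haveI := Groth.L17.ClosedPush.preservesColimits_push ι
  haveI : PreservesFiniteColimits F := PreservesColimitsOfSize.preservesFiniteColimits F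
  haveI : F.IsRightAdjoint := (Scheme.Modules.pullbackPushforwardAdjunction ι).isRightAdjoint
  let f : N₁ ⟶ N₂ := hF.preimage (e₁.hom ≫ S.f ≫ e₂.inv)
  let g : N₂ ⟶ N₃ := hF.preimage (e₂.hom ≫ S.g ≫ e₃.inv)
  have hf : F.map f = e₁.hom ≫ S.f ≫ e₂.inv := hF.map_preimage _
  have hg : F.map g = e₂.hom ≫ S.g ≫ e₃.inv := hF.map_preimage _
  have w : f ≫ g = 0 := F.map_injective (by
    rw [F.map_comp, F.map_zero, hf, hg]
    simp [S.zero_assoc])
  refine ⟨f, g, w, ?_⟩
  haveI : PreservesFiniteLimits F := inferInstance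
  refine ShortExact.reflects_shortExact_of_faithful F (S := ShortComplex.mk f g w) ?_
  refine (ShortComplex.shortExact_iff_of_iso (ShortComplex.isoMk e₁ e₂ e₃ ?_ ?_ :
    (ShortComplex.mk f g w).map F ≅ S)).2 hS
  · show e₁.hom ≫ S.f = F.map f ≫ e₂.hom
    rw [hf]; simp
  · show e₂.hom ≫ S.g = F.map g ≫ e₃.hom
    rw [hg]; simp

/-- A periodic sequence given by a polynomial is constant. -/
theorem eq_of_periodic {e : ℕ → ℤ} (P : MvPolynomial (Fin 1) ℚ)
    (hP : ∀ n, (e n : ℚ) = MvPolynomial.eval (fun _ => (n : ℚ)) P) {m : ℕ} (hm : 1 ≤ m)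
    (hper : ∀ n, e (n + m) = e n) (n : ℕ) : e n = e 0 := by
  let Q : Polynomial ℚ := MvPolynomial.aeval (fun _ : Fin 1 => Polynomial.X) P
  have hQ : ∀ x : ℚ, Q.eval x = MvPolynomial.eval (fun _ => x) P := fun x => by
    show (Polynomial.evalRingHom x).comp (MvPolynomial.aeval (fun _ : Fin 1 => Polynomial.X)).toRingHom P = _
    congr 1
    refine MvPolynomial.ringHom_ext (fun r => ?_) (fun i => ?_) <;> simp
  have h0 : ∀ t : ℕ, e (t * m) = e 0 := fun t => by
    induction t with
    | zero => simp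
    | succ t ih => rw [add_mul, one_mul, hper, ih]
  have hz : Q - Polynomial.C (e 0 : ℚ) = 0 := by
    refine Polynomial.eq_zero_of_infinite_isRoot _ (Set.Infinite.mono ?_
      (Set.infinite_range_of_injective (f := fun t : ℕ => ((t * m : ℕ) : ℚ)) fun a b h =>
        Nat.eq_of_mul_eq_mul_right hm (Nat.cast_injective h)))
    rintro _ ⟨t, rfl⟩
    simp only [Set.mem_setOf_eq, Polynomial.IsRoot, Polynomial.eval_sub, Polynomial.eval_C, hQ, ← hP, h0,
      sub_self]
  have h := hP n
  rw [← hQ, sub_eq_zero.1 hz, Polynomial.eval_C] at h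
  exact_mod_cast h

section Pullback

variable {Z X : Scheme.{u}} (s : Z ⟶ X)

theorem nonempty_pullback_tensorPow (A : X.Modules) : ∀ n : ℕ,
    Nonempty ((Scheme.Modules.pullback s).obj (CohB1.tensorPow A n) ≅
      CohB1.tensorPow ((Scheme.Modules.pullback s).obj A) n)
  | 0 => ⟨Groth.L29.LocFree.pullbackUnitIso s⟩
  | n + 1 => by
    obtain ⟨e⟩ := nonempty_pullback_tensorPow A n
    exact ⟨(Groth.L29.DC.PullTensor.pullTensor s _ _).symm ≪≫ tensorIso e (Iso.refl _)⟩

end Pullback

variable (k : Type u) [Field k] {P X : Scheme.{u}} [P.Over (Spec (CommRingCat.of k))]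
  [IsProper (P ↘ Spec (CommRingCat.of k))]

/-- The degree of the multiplicity divides the Euler characteristic. -/
theorem dvd_euler_of_ker_eq_pow [IsLocallyNoetherian X] [X.IsSeparated] (ι : P ⟶ X) [IsClosedImmersion ι]
    (I : X.IdealSheafData) (hI : BlowUp.IsEffCartierIdeal I) (m : ℕ) (hm : 1 ≤ m) (hker : ι.ker = I ^ m)
    (e₀ : Nonempty (ClSub.idealMod (I ^ m) ≅ Coh.structureModule X)) :
    (m : ℤ) ∣ Curv2.euler k P (Coh.structureModule P) := by
  haveI : IsLocallyNoetherian P := LocallyOfFiniteType.isLocallyNoetherian (P ↘ Spec (CommRingCat.of k))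
  haveI := Groth.L21.RR.isNoetherian_of_proper (X := P) k
  haveI : P.IsSeparated := ⟨by rw [← terminal.comp_from (P ↘ Spec (CommRingCat.of k))]; infer_instance⟩
  have hIi : PicF.IsInvertible (ClSub.idealMod I) := (Groth.Agent.L19.IdealInvertible.isEffCartier_iff I).2 hI
  have hpow := fun n => Groth.L13.PointBlow.nonempty_idealMod_pow hIi n
  -- the closed subscheme of `I` inside `P`
  let s := I.subschemeι
  have hle : ι.ker ≤ s.ker := by
    rw [Scheme.IdealSheafData.ker_subschemeι, hker]
    obtain ⟨j, rfl⟩ : ∃ j, m = j + 1 := ⟨m - 1, by omega⟩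
    rw [pow_succ]
    exact Groth.L03.BlowPt.QuotSeq.mul_le_right _ _
  let u : I.subscheme ⟶ P := IsClosedImmersion.lift ι s hle
  have hu : u ≫ ι = s := IsClosedImmersion.lift_fac ι s hle
  haveI : IsClosedImmersion u := by
    haveI : IsClosedImmersion (u ≫ ι) := by rw [hu]; infer_instance
    exact IsClosedImmersion.of_comp u ι
  letI : I.subscheme.Over (Spec (CommRingCat.of k)) := ⟨u ≫ P ↘ Spec (CommRingCat.of k)⟩
  haveI : IsProper (I.subscheme ↘ Spec (CommRingCat.of k)) :=
    inferInstanceAs (IsProper (u ≫ P ↘ Spec (CommRingCat.of k)))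
  haveI := Groth.L21.RR.isNoetherian_of_proper (X := I.subscheme) k
  let B : ℕ → I.subscheme.Modules := fun n => (Scheme.Modules.pullback s).obj (ClSub.idealMod (I ^ n))
  have hBi : ∀ n, PicF.IsInvertible (B n) := fun n => Groth.L18.Ample.isInvertible_pullback s (hpow n).1
  have hBc : ∀ n, Coh.IsCoh (B n) := fun n => Groth.L16.ProperFinite.isCoh_of_isInvertible (hBi n)
  let e : ℕ → ℤ := fun n => Curv2.euler k I.subscheme (B n)
  -- polynomial
  let L : Fin 1 → I.subscheme.Modules := fun _ => (Scheme.Modules.pullback s).obj (ClSub.idealMod I)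
  obtain ⟨d, hd⟩ := Groth.L03.Euler.exists_dim_bound k I.subscheme
  obtain ⟨Q, -, hQ⟩ := Groth.L03.Euler.exists_polynomial_tensorPows k (L := L)
    (fun _ => Groth.L18.Ample.isInvertible_pullback s hIi)
    (Groth.L16.CohClosedPush.isCoh_structure (X := I.subscheme)) (d := d)
    ((topologicalKrullDim_subspace_le I.subscheme _).trans hd)
  have hen : ∀ n : ℕ, (e n : ℚ) = MvPolynomial.eval (fun _ => (n : ℚ)) Q := fun n => by
    rw [← hQ (fun _ => n)]
    obtain ⟨i₁⟩ := (hpow n).2
    obtain ⟨i₂⟩ := nonempty_pullback_tensorPow s (ClSub.idealMod I) n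
    refine congrArg (Int.cast : ℤ → ℚ) (Groth.L03.Euler.euler_iso ?_)
    exact (Scheme.Modules.pullback s).mapIso i₁ ≪≫ i₂ ≪≫ (tensorUnitLeft _).symm
  have hper : ∀ n, e (n + m) = e n := fun n => by
    obtain ⟨e₀⟩ := e₀
    obtain ⟨i₁⟩ := Groth.L13.PointBlow.nonempty_idealMod_mul (hpow n).1 (hpow m).1
    refine Groth.L03.Euler.euler_iso ((Scheme.Modules.pullback s).mapIso ?_)
    exact eqToIso (by rw [pow_add]) ≪≫ i₁ ≪≫ tensorIso (Iso.refl _) e₀ ≪≫ tensorUnitRight _
  have hconst := eq_of_periodic Q hen hm hper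
  -- the graded pieces inside `P`
  let G : ℕ → P.Modules := fun n => (Scheme.Modules.pushforward u).obj (B n)
  have hGc : ∀ n, Coh.IsCoh (G n) := fun n => Groth.L16.CohClosedPush.isCoh_push u (hBc n)
  have hGe : ∀ n, Curv2.euler k P (G n) = e n := fun n => Groth.L03.Euler.euler_push u (B n) (hBc n).1 rfl
  have hGq : ∀ n, Nonempty ((Scheme.Modules.pushforward ι).obj (G n) ≅
      CohB1.tensorMod (ClSub.idealMod (I ^ n)) (ClSub.quotMod I)) := fun n => by
    haveI := Groth.L17.ProjFormula.isIso_θ s (ClSub.idealMod (I ^ n)) (Coh.structureModule I.subscheme)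
      (Groth.L16.Existence.isFinLocFree_of_isInvertible (hpow n).1)
    exact ⟨(Scheme.Modules.pushforwardComp u ι).app _ ≪≫ (Scheme.Modules.pushforwardCongr hu).app _ ≪≫
      (Scheme.Modules.pushforward s).mapIso (tensorUnitRight (B n)).symm ≪≫
      (asIso (Groth.L17.ClosedPush.θ s (Coh.structureModule I.subscheme) (ClSub.idealMod (I ^ n)))).symm⟩
  -- induction along the powers
  have key : ∀ n : ℕ, n + 1 ≤ m → ∀ N : P.Modules, Coh.IsCoh N →
      ((Scheme.Modules.pushforward ι).obj N ≅ ClSub.quotMod (I ^ (n + 1))) →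
      Curv2.euler k P N = ((n + 1 : ℕ) : ℤ) * e 0 := by
    intro n
    induction n with
    | zero =>
      intro _ N _ φ
      haveI : IsIso (Scheme.Modules.pullbackPushforwardAdjunction ι).counit :=
        Groth.L17.ClosedPush.isIso_counit ι
      let hF := (Scheme.Modules.pullbackPushforwardAdjunction ι).fullyFaithfulROfIsIsoCounit
      obtain ⟨ψ⟩ := hGq 0
      obtain ⟨i₀⟩ := (hpow 0).2
      have ε : CohB1.tensorMod (ClSub.idealMod (I ^ 0)) (ClSub.quotMod I) ≅ ClSub.quotMod I :=
        tensorIso i₀ (Iso.refl _) ≪≫ tensorUnitLeft _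
      rw [Groth.L03.Euler.euler_iso (hF.preimageIso
        (φ ≪≫ eqToIso (by rw [zero_add, pow_one]) ≪≫ ε.symm ≪≫ ψ.symm)), hGe]
      simp
    | succ n ih =>
      intro hn N hN φ
      -- the previous step
      have hle' : ι.ker ≤ (I ^ (n + 1)).subschemeι.ker := by
        rw [Scheme.IdealSheafData.ker_subschemeι, hker,
          show m = (m - (n + 1)) + (n + 1) by omega, pow_add]
        exact Groth.L03.BlowPt.QuotSeq.mul_le_right _ _
      let v : (I ^ (n + 1)).subscheme ⟶ P := IsClosedImmersion.lift ι (I ^ (n + 1)).subschemeι hle'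
      have hv : v ≫ ι = (I ^ (n + 1)).subschemeι := IsClosedImmersion.lift_fac ι _ hle'
      haveI : IsClosedImmersion v := by
        haveI : IsClosedImmersion (v ≫ ι) := by rw [hv]; infer_instance
        exact IsClosedImmersion.of_comp v ι
      haveI : IsLocallyNoetherian (I ^ (n + 1)).subscheme := LocallyOfFiniteType.isLocallyNoetherian v
      let N' : P.Modules := (Scheme.Modules.pushforward v).obj (Coh.structureModule (I ^ (n + 1)).subscheme)
      have hN' : Coh.IsCoh N' := Groth.L16.CohClosedPush.isCoh_push v Groth.L16.CohClosedPush.isCoh_structure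
      let φ' : (Scheme.Modules.pushforward ι).obj N' ≅ ClSub.quotMod (I ^ (n + 1)) :=
        (Scheme.Modules.pushforwardComp v ι).app _ ≪≫ (Scheme.Modules.pushforwardCongr hv).app _
      have h' := ih (by omega) N' hN' φ'
      obtain ⟨f, g, w, hS, -⟩ := exists_shortExact_quot (I ^ (n + 1)) I
        ((Groth.Agent.L19.IdealInvertible.isEffCartier_iff _).1 (hpow _).1)
      obtain ⟨ψ⟩ := hGq (n + 1)
      obtain ⟨f', g', w', hS'⟩ := exists_shortExact_preimage ι hS ψ
        (φ ≪≫ eqToIso (congrArg ClSub.quotMod (pow_succ I (n + 1)))) φ'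
      have hadd := Groth.L03.Euler.euler_add (k := k) hS' (hGc _) hN hN'
      rw [show Curv2.euler k P N = _ from hadd, hGe, h', hconst (n + 1)]
      push_cast
      ring
  obtain ⟨j, rfl⟩ : ∃ j, m = j + 1 := ⟨m - 1, by omega⟩
  have hO := Groth.L16.CohClosedPush.isCoh_structure (X := P)
  let φ : (Scheme.Modules.pushforward ι).obj (Coh.structureModule P) ≅ ClSub.quotMod (I ^ (j + 1)) :=
    let e₁ : ι.ker.subscheme ≅ P := (asIso ι.toImage).symm
    ((Scheme.Modules.pushforwardCongr (Scheme.Hom.toImage_imageι ι).symm).app _ ≪≫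
      ((Scheme.Modules.pushforwardComp ι.toImage ι.ker.subschemeι).app _).symm ≪≫
      (Scheme.Modules.pushforward ι.ker.subschemeι).mapIso
        (((Groth.L19.Conormal.pullbackIsoPush e₁).app _).symm ≪≫ Groth.L29.LocFree.pullbackUnitIso e₁.hom)) ≪≫
      eqToIso (congrArg ClSub.quotMod hker)
  exact ⟨e 0, key j le_rfl _ hO φ⟩

end Groth.L05.EulerDiv
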