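import Groth.Agent.L05.EulerDiv.Divis
import Groth.Agent.L03.SurfAmple.Curve
import Groth.Agent.L22.CurveAmple.Section
import Groth.Agent.L00.ProperNorm

/-!
Chains of divisors on the special fibre whose global functions are fields.
-/

set_option autoImplicit false
set_option backward.isDefEq.respectTransparency false
set_option linter.style.haveILetI false
set_option linter.unusedSectionVars false
universe u

open CategoryTheory CategoryTheory.Limits AlgebraicGeometry TopologicalSpace Opposite

noncomputable section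

namespace Groth.L05.EulerDiv

open Groth.L05.InterPair Groth.L05.FibreDecomp
open Groth.L22.Inter Groth.L22.Nef
open Groth.L00.Tensor (tensorIso tensorUnitRight tensorUnitLeft)
open Groth.L21.Extend (rs)

section Curve

variable (k : Type u) [Field k] {Y : Scheme.{u}} [Y.Over (Spec (CommRingCat.of k))]
  [IsProper (Y ↘ Spec (CommRingCat.of k))] [IsIntegral Y] (hd : topologicalKrullDim Y = 1)

include hd in
/-- An invertible module of negative degree on a curve has no sections. -/
theorem subsingleton_h0_of_neg {N : Y.Modules} (hN : PicF.IsInvertible N)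
    (hdeg : ArSurf.curveDeg k Y N < 0) : Subsingleton (Coh.HH Y N 0) := by
  haveI := Groth.L21.RR.isNoetherian_of_proper (X := Y) k
  refine not_nontrivial_iff_subsingleton.1 fun hn => ?_
  haveI := hn
  obtain ⟨s, hs⟩ := Groth.L21.RR.exists_hom_ne_zero (L := N)
  have hη := Groth.L22.CurveAmple.genericPoint_mem_genLocus hN hs
  by_cases htop : CohB1.genLocus _ s = ⊤
  · obtain ⟨e⟩ := Groth.L03.SurfAmple.nonempty_iso_of_genLocus_top s htop
    rw [curveDeg_congr k hd e, curveDeg_unit k hd] at hdeg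
    exact lt_irrefl _ hdeg
  · obtain ⟨z, hz⟩ : ∃ z, z ∉ CohB1.genLocus _ s := by
      by_contra hall
      push Not at hall
      exact htop (top_le_iff.1 fun z _ => hall z)
    have h := Groth.L03.SurfAmple.altT_pos_of_vanishing k (hd.trans Nat.cast_one.symm) hN s hη hz
    rw [← curveDeg_eq_altT k hd] at h
    exact lt_asymm hdeg (by exact_mod_cast h)

end Curve

section Combinatorics

variable {n : ℕ}

/-- Vectors proportional to a primitive vector are multiples of it. -/
theorem exists_eq_mul_of_cross {b m : Fin n → ℕ} (hg : Finset.univ.gcd m = 1)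
    (h : ∀ i j, b i * m j = b j * m i) : ∃ t, ∀ i, b i = t * m i := by
  refine ⟨Finset.univ.gcd b, fun i => ?_⟩
  have h1 : Finset.univ.gcd (fun j => b i * m j) = b i := by
    rw [Finset.gcd_mul_left, hg, mul_one, normalize_eq]
  have h2 : Finset.univ.gcd (fun j => b j * m i) = Finset.univ.gcd b * m i := by
    rw [Finset.gcd_mul_right, normalize_eq]
  rw [← h2, ← h1]
  exact Finset.gcd_congr rfl fun j _ => h i j

end Combinatorics

variable {R : Type u} [CommRing R] [IsDomain R] [IsDiscreteValuationRing R]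
  {X : Over (Spec (CommRingCat.of R))} [IsProper X.hom] [IsLocallyNoetherian X.left]

local notation "κ" => IsLocalRing.ResidueField R

theorem subsingleton_h0_tensor (Γ : ArSurf.VertComp R X) {M : X.left.Modules} (hM : PicF.IsInvertible M)
    (hneg : ArSurf.inter R X M Γ < 0) :
    Subsingleton (Coh.HH X.left (CohB1.tensorMod M (ClSub.quotMod Γ.ι.ker)) 0) := by
  letI : X.left.Over (Spec (CommRingCat.of R)) := ⟨X.hom⟩
  haveI := isProper_curve Γ
  haveI := Groth.L21.RR.isNoetherian_of_proper (X := Γ.curve.left) κ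
  haveI : X.left.IsSeparated := ⟨by rw [← terminal.comp_from X.hom]; infer_instance⟩
  set N := (Scheme.Modules.pullback Γ.ι).obj M
  have hNi : PicF.IsInvertible N := Groth.L18.Ample.isInvertible_pullback Γ.ι hM
  haveI := Groth.L17.ProjFormula.isIso_θ Γ.ι M (Coh.structureModule Γ.curve.left)
    (Groth.L16.Existence.isFinLocFree_of_isInvertible hM)
  obtain ⟨q⟩ := nonempty_push_curve Γ
  let e : CohB1.tensorMod M (ClSub.quotMod Γ.ι.ker) ≅ (Scheme.Modules.pushforward Γ.ι).obj N :=
    tensorIso (Iso.refl M) q.symm ≪≫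
      asIso (Groth.L17.ClosedPush.θ Γ.ι (Coh.structureModule Γ.curve.left) M) ≪≫
      (Scheme.Modules.pushforward Γ.ι).mapIso (tensorUnitRight _)
  letI : Γ.curve.left.Over (Spec (CommRingCat.of R)) := ⟨Γ.ι ≫ X.hom⟩
  obtain ⟨φ⟩ := exists_HH_push (A := R) Γ.ι N (Groth.L16.ProperFinite.isCoh_of_isInvertible hNi).1 rfl 0
  haveI : Subsingleton (Coh.HH Γ.curve.left N 0) :=
    @subsingleton_h0_of_neg κ _ Γ.curve.left _ _ _ Γ.dim_eq _ hNi hneg
  exact ((hhIso (A := R) e 0).trans φ.symm).toEquiv.subsingleton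

/-- Restriction of functions from `I·Γ` to `I` is injective if `I` has negative degree on `Γ`. -/
theorem injective_restrict (Γ : ArSurf.VertComp R X) {I : X.left.IdealSheafData}
    (hI : BlowUp.IsEffCartierIdeal I) (hneg : ArSurf.inter R X (ClSub.idealMod I) Γ < 0)
    (h : I * Γ.ι.ker ≤ I) :
    Function.Injective (Scheme.IdealSheafData.inclusion h).appTop := by
  have hM := (Groth.Agent.L19.IdealInvertible.isEffCartier_iff I).2 hI
  obtain ⟨f, g, w, hS, hg⟩ := exists_shortExact_quot I Γ.ι.ker hI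
  haveI := subsingleton_h0_tensor Γ hM hneg
  -- the module map agrees with the restriction of functions
  have hkey : ∀ s : Γ((I * Γ.ι.ker).subscheme, ⊤),
      g.app ⊤ (show Γ(ClSub.quotMod (I * Γ.ι.ker), ⊤) from s) =
        (show Γ(ClSub.quotMod I, ⊤) from (Scheme.IdealSheafData.inclusion h).appTop s) := by
    intro s
    refine Groth.L21.Extend.eq_of_locally (ClSub.quotMod I) _ _ fun y _ => ?_
    obtain ⟨V, hV, hyV, -⟩ := exists_isAffineOpen_mem_and_subset (x := y) (U := ⊤) trivial
    refine ⟨V, le_top, hyV, ?_⟩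
    obtain ⟨a, ha⟩ := (I * Γ.ι.ker).subschemeι.app_surjective V hV
      (show Γ((I * Γ.ι.ker).subscheme, (I * Γ.ι.ker).subschemeι ⁻¹ᵁ V) from
        rs (ClSub.quotMod (I * Γ.ι.ker)) (le_top : V ≤ ⊤) s)
    have e1 : g.app V (rs (ClSub.quotMod (I * Γ.ι.ker)) (le_top : V ≤ ⊤) s) =
        rs (ClSub.quotMod I) (le_top : V ≤ ⊤) (g.app ⊤ (show Γ(ClSub.quotMod (I * Γ.ι.ker), ⊤) from s)) :=
      ConcreteCategory.congr_hom (g.mapPresheaf.naturality (homOfLE (le_top : V ≤ ⊤)).op) s
    have e2 : g.app V (rs (ClSub.quotMod (I * Γ.ι.ker)) (le_top : V ≤ ⊤) s) =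
        (show Γ(ClSub.quotMod I, V) from I.subschemeι.app V a) := by
      have e3 := congrArg (fun φ : Coh.structureModule X.left ⟶ ClSub.quotMod I =>
        φ.app V (show Γ(Coh.structureModule X.left, V) from a)) hg
      exact (congrArg (g.app V) ha.symm).trans e3
    rw [← e1, e2]
    have e4 := congr($(Scheme.Hom.congr_app (Scheme.IdealSheafData.inclusion_subschemeι h).symm V) a)
    refine e4.trans ?_
    rw [Scheme.Hom.comp_app]
    show I.subscheme.presheaf.map _ ((Scheme.IdealSheafData.inclusion h).app _ ((I * Γ.ι.ker).subschemeι.app V a)) = _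
    rw [ha]
    refine (congrArg (I.subscheme.presheaf.map _) (ConcreteCategory.congr_hom
      ((Scheme.IdealSheafData.inclusion h).naturality
        (homOfLE (le_top : (I * Γ.ι.ker).subschemeι ⁻¹ᵁ V ≤ ⊤)).op) s)).trans ?_
    exact (congr($((I.subscheme.presheaf.map_comp _ _).symm) ((Scheme.IdealSheafData.inclusion h).appTop s)))
  -- injectivity of the module map on global sections
  have hinj : Function.Injective (g.app ⊤) := by
    refine (injective_iff_map_eq_zero (g.app ⊤).hom).2 fun t ht => ?_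
    obtain ⟨x, rfl⟩ := (Groth.L21.RR.e0 (ClSub.quotMod (I * Γ.ι.ker))).surjective t
    have hx : Groth.L16.CohLinear.hmap g 0 x = 0 :=
      (Groth.L21.RR.e0 _).injective ((Groth.L21.RR.e0_hmap g x).trans (ht.trans (map_zero _).symm))
    obtain ⟨z, rfl⟩ := (Groth.L16.CohLinear.exact_hmap_hmap hS 0 x).1 hx
    rw [Subsingleton.elim z 0, map_zero, map_zero]
  intro s t hst
  exact hinj ((hkey s).trans ((congrArg (fun c => (show Γ(ClSub.quotMod I, ⊤) from c)) hst).trans (hkey t).symm))

/-- Functions on a closed subscheme are finite over the base. -/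
theorem finite_Γ_subscheme (I : X.left.IdealSheafData) :
    ((I.subschemeι ≫ X.hom).appTop.hom.comp (Scheme.ΓSpecIso (CommRingCat.of R)).inv.hom).Finite :=
  Groth.L00.ProperNorm.finite_toGlobal (I.subschemeι ≫ X.hom)

/-- A field of functions pulls back along an injective restriction. -/
theorem isField_of_injective_restrict {I J : X.left.IdealSheafData} (h : J ≤ I)
    (hinj : Function.Injective (Scheme.IdealSheafData.inclusion h).appTop)
    (hF : IsField Γ(I.subscheme, ⊤)) : IsField Γ(J.subscheme, ⊤) := by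
  letI : Algebra Γ(J.subscheme, ⊤) Γ(I.subscheme, ⊤) :=
    (Scheme.IdealSheafData.inclusion h).appTop.hom.toAlgebra
  let φ := (I.subschemeι ≫ X.hom).appTop.hom.comp (Scheme.ΓSpecIso (CommRingCat.of R)).inv.hom
  let ψ := (J.subschemeι ≫ X.hom).appTop.hom.comp (Scheme.ΓSpecIso (CommRingCat.of R)).inv.hom
  have hcomp : φ = (algebraMap Γ(J.subscheme, ⊤) Γ(I.subscheme, ⊤)).comp ψ := by
    simp only [φ, ψ, ← Scheme.IdealSheafData.inclusion_subschemeι h, Category.assoc, Scheme.Hom.comp_appTop,
      CommRingCat.hom_comp, RingHom.comp_assoc]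
    rfl
  have hi : φ.IsIntegral := RingHom.IsIntegral.of_finite (finite_Γ_subscheme I)
  rw [hcomp] at hi
  haveI : Algebra.IsIntegral Γ(J.subscheme, ⊤) Γ(I.subscheme, ⊤) := ⟨RingHom.IsIntegral.tower_top _ _ hi⟩
  exact isField_of_isIntegral_of_isField (R := Γ(J.subscheme, ⊤)) (S := Γ(I.subscheme, ⊤)) hinj hF

/-- The functions on a component are a field. -/
theorem isField_component (Γ : ArSurf.VertComp R X) : IsField Γ(Γ.ι.ker.subscheme, ⊤) := by
  haveI := isProper_curve Γ
  exact MulEquiv.isField (isField_Γtop κ (Y := Γ.curve.left))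
    (asIso Γ.ι.toImage.appTop).commRingCatIsoToRingEquiv.toMulEquiv

variable [Flat X.hom] [IsIntegral X.left] (hreg : Models.IsRegularScheme X.left) {n : ℕ}
  {Γs : Fin n → ArSurf.VertComp R X} (hΓ : Models.IsComponentList R X Γs) {L : Fin n → X.left.Modules}
  (hL : ∀ i, ClSub.IsInverseOf (L i) (ClSub.idealMod (Γs i).ι.ker))

include hreg hΓ hL

/-- One step of the chain. -/
theorem isField_step {a : Fin n → ℕ} {i : Fin n}
    (hi : 0 < ∑ j, (a j : ℤ) * ArSurf.inter R X (L j) (Γs i))
    (hF : IsField Γ((InterPair.div Γs a).subscheme, ⊤)) :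
    IsField Γ((InterPair.div Γs fun j => a j + if j = i then 1 else 0).subscheme, ⊤) := by
  have hI := isEffCartier_div hreg hΓ a
  have hle : InterPair.div Γs a * (Γs i).ι.ker ≤ InterPair.div Γs a := fun U => by
    rw [Scheme.IdealSheafData.ideal_mul, Pi.mul_apply]; exact Ideal.mul_le_inf.trans inf_le_left
  have hneg : ArSurf.inter R X (ClSub.idealMod (InterPair.div Γs a)) (Γs i) < 0 := by
    show negDeg (Γs i) (InterPair.div Γs a) < 0
    rw [negDeg_div hreg hΓ (Γs i) a, sum_negDeg_eq hreg hΓ hL a i]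
    linarith
  rw [div_add_single hreg hΓ a i]
  exact isField_of_injective_restrict hle (injective_restrict (Γs i) hI hneg hle) hF

/-- A chain of fields up to a given bound. -/
theorem exists_chain {cap : Fin n → ℕ}
    (hnext : ∀ a : Fin n → ℕ, a ≠ 0 → a ≤ cap → a ≠ cap →
      ∃ i, a i < cap i ∧ 0 < ∑ j, (a j : ℤ) * ArSurf.inter R X (L j) (Γs i))
    (a : Fin n → ℕ) (ha0 : a ≠ 0) (ha : a ≤ cap) (hF : IsField Γ((InterPair.div Γs a).subscheme, ⊤)) :
    ∃ (s : ℕ) (c : Fin (s + 1) → Fin n → ℕ), c 0 = a ∧ c (Fin.last s) = cap ∧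
      (∀ j : Fin s, ∃ i, c j.succ = c j.castSucc + Pi.single i 1) ∧
      ∀ j, IsField Γ((InterPair.div Γs (c j)).subscheme, ⊤) := by
  classical
  induction hm : ∑ j, (cap j - a j) using Nat.strong_induction_on generalizing a with
  | _ m ih =>
    by_cases hac : a = cap
    · exact ⟨0, fun _ => a, rfl, hac, fun j => j.elim0, fun _ => hF⟩
    · obtain ⟨i, hi, hpos⟩ := hnext a ha0 ha hac
      have he : (fun j => a j + if j = i then 1 else 0) = a + Pi.single i 1 := by
        funext j; simp [Pi.single_apply]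
      have hF' := he ▸ isField_step hreg hΓ hL hpos hF
      have hle : a + Pi.single i 1 ≤ cap := by
        rw [← he]; intro j
        show (a j + if j = i then 1 else 0) ≤ cap j
        split
        · subst j; omega
        · simpa using ha j
      have hne : a + Pi.single i 1 ≠ 0 := fun h => by
        have := congrFun h i
        simp at this
      have hlt : ∑ j, (cap j - (a + Pi.single i 1 : Fin n → ℕ) j) < m := by
        rw [← hm]
        refine Finset.sum_lt_sum (fun j _ => ?_) ⟨i, Finset.mem_univ i, ?_⟩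
        · simp only [Pi.add_apply]; omega
        · simp only [Pi.add_apply, Pi.single_eq_same]; omega
      obtain ⟨s, c, h0, h1, h2, h3⟩ := ih _ hlt _ hne hle hF' rfl
      refine ⟨s + 1, Fin.cons a c, Fin.cons_zero _ _, ?_, fun j => ?_, fun j => ?_⟩
      · rw [← Fin.succ_last, Fin.cons_succ, h1]
      · refine Fin.cases ?_ (fun j => ?_) j
        · exact ⟨i, by rw [Fin.cons_succ, Fin.castSucc_zero, Fin.cons_zero, h0]⟩
        · obtain ⟨k, hk⟩ := h2 j
          exact ⟨k, by rw [Fin.cons_succ, ← Fin.succ_castSucc, Fin.cons_succ, hk]⟩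
      · refine Fin.cases ?_ (fun j => ?_) j
        · rw [Fin.cons_zero]; exact hF
        · rw [Fin.cons_succ]; exact h3 j

variable (hconn : _root_.IsPreconnected (Models.specialFibreSet R X))

include hconn

theorem next_ones {a : Fin n → ℕ} (ha0 : a ≠ 0) (ha : a ≤ fun _ => 1) (hne : a ≠ fun _ => 1) :
    ∃ i, a i < (fun _ => 1 : Fin n → ℕ) i ∧ 0 < ∑ j, (a j : ℤ) * ArSurf.inter R X (L j) (Γs i) := by
  classical
  let I := Finset.univ.filter fun i => a i = 0
  obtain ⟨i, hi, j, hj, hij⟩ := inter_connected hreg hΓ hL hconn I (by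
      by_contra h
      refine hne (funext fun i => ?_)
      have h1 : a i ≤ 1 := ha i
      rw [Finset.not_nonempty_iff_eq_empty, Finset.filter_eq_empty_iff] at h
      have h2 : a i ≠ 0 := h (Finset.mem_univ i)
      omega)
    (by
      intro h
      refine ha0 (funext fun i => ?_)
      have h1 : i ∈ I := h ▸ Finset.mem_univ i
      exact (Finset.mem_filter.1 h1).2)
  simp only [I, Finset.mem_filter, Finset.mem_univ, true_and] at hi hj
  have hne' : i ≠ j := fun h => hj (h ▸ hi)
  refine ⟨i, by show a i < 1; omega, ?_⟩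
  have hnn : ∀ k, 0 ≤ (a k : ℤ) * ArSurf.inter R X (L k) (Γs i) := fun k => by
    rcases eq_or_ne k i with rfl | hk
    · rw [hi]; simp
    · exact mul_nonneg (Int.natCast_nonneg _) (inter_nonneg_and_eq_zero_iff hreg hΓ hL hk.symm).1
  refine Finset.sum_pos' (fun k _ => hnn k) ⟨j, Finset.mem_univ j, mul_pos ?_ ?_⟩
  · exact_mod_cast Nat.pos_of_ne_zero hj
  · exact lt_of_le_of_ne (inter_nonneg_and_eq_zero_iff hreg hΓ hL hne').1 (Ne.symm hij)

theorem next_primitive {m' : Fin n → ℕ} {d : ℕ} (hd : 0 < d) (hm : ∀ i, Models.mult R X (Γs i) = d * m' i)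
    (hg : Finset.univ.gcd m' = 1) {a : Fin n → ℕ} (ha0 : a ≠ 0) (ha : a ≤ m') (hne : a ≠ m') :
    ∃ i, a i < m' i ∧ 0 < ∑ j, (a j : ℤ) * ArSurf.inter R X (L j) (Γs i) := by
  classical
  have hb : ∀ i, ((m' i - a i : ℕ) : ℤ) = (m' i : ℤ) - a i := fun i => by
    have : a i ≤ m' i := ha i
    omega
  have hMm : ∀ i, ∑ j, (m' j : ℤ) * ArSurf.inter R X (L j) (Γs i) = 0 := fun i => by
    have h := sum_mult_mul_inter hreg hΓ hL (Γs i)
    simp only [hm, Nat.cast_mul, mul_assoc, ← Finset.mul_sum] at h
    exact (mul_eq_zero.1 h).resolve_left (by exact_mod_cast hd.ne')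
  obtain ⟨hnp, hz⟩ := form_nonpos_and_eq_zero_iff hreg hΓ hL hconn fun i => ((m' i - a i : ℕ) : ℤ)
  have hlt := lt_of_le_of_ne hnp fun h0 => by
    obtain ⟨c, hc⟩ := hz.1 h0
    obtain ⟨t, ht⟩ := exists_eq_mul_of_cross (b := fun i => m' i - a i) hg fun i j => by
      have hi := hc i
      have hj := hc j
      rw [hm, Int.cast_natCast, Nat.cast_mul] at hi hj
      exact_mod_cast (show ((m' i - a i : ℕ) : ℚ) * (m' j : ℚ) = ((m' j - a j : ℕ) : ℚ) * (m' i : ℚ) by
        rw [hi, hj]; ring)
    rcases Nat.eq_zero_or_pos t with rfl | htp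
    · refine hne (funext fun i => ?_)
      have h1 : a i ≤ m' i := ha i
      have h2 : m' i - a i = 0 * m' i := ht i
      rw [zero_mul] at h2
      omega
    · refine ha0 (funext fun i => ?_)
      have h1 : a i ≤ m' i := ha i
      have h2 : m' i - a i = t * m' i := ht i
      have h3 : m' i ≤ t * m' i := Nat.le_mul_of_pos_left _ htp
      show a i = 0
      omega
  rw [Fintype.sum_prod_type] at hlt
  simp only [mul_assoc, ← Finset.mul_sum] at hlt
  obtain ⟨i, -, hi⟩ := Finset.exists_lt_of_sum_lt (g := fun _ => (0 : ℤ)) (by simpa using hlt)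
  have hpos : 0 < ((m' i - a i : ℕ) : ℤ) := by
    rcases Nat.eq_zero_or_pos (m' i - a i) with h | h
    · rw [h] at hi; simp at hi
    · exact_mod_cast h
  refine ⟨i, by omega, ?_⟩
  by_contra hle
  refine absurd hi (not_lt.2 (mul_nonneg hpos.le ?_))
  simp only [hb, sub_mul, Finset.sum_sub_distrib, hMm i]
  push Not at hle
  linarith

/-- The functions on the sum of the components are a field, and so along a chain up to the primitive fibre. -/
theorem exists_chain_primitive (i₀ : Fin n) {m' : Fin n → ℕ} {d : ℕ} (hd : 0 < d)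
    (hm : ∀ i, Models.mult R X (Γs i) = d * m' i) (hg : Finset.univ.gcd m' = 1) :
    ∃ (s : ℕ) (c : Fin (s + 1) → Fin n → ℕ), (c 0 = fun _ => 1) ∧ c (Fin.last s) = m' ∧
      (∀ j : Fin s, ∃ i, c j.succ = c j.castSucc + Pi.single i 1) ∧
      ∀ j, IsField Γ((InterPair.div Γs (c j)).subscheme, ⊤) := by
  classical
  have h1 : InterPair.div Γs (fun j => if j = i₀ then 1 else 0) = (Γs i₀).ι.ker := by
    have h := div_add_single hreg hΓ (fun _ => 0) i₀
    simp only [zero_add] at h
    rw [h, show InterPair.div Γs (fun _ => 0) = 1 from Finset.prod_eq_one fun j _ => pow_zero _, one_mul]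
  obtain ⟨s, c, -, hc1, -, hc3⟩ := exists_chain hreg hΓ hL (cap := fun _ => 1)
    (fun a h0 hle hne => next_ones hreg hΓ hL hconn h0 hle hne) (fun j => if j = i₀ then 1 else 0)
    (fun h => by simpa using congrFun h i₀) (fun j => by show (if j = i₀ then (1 : ℕ) else 0) ≤ (1 : ℕ); split <;> simp)
    (by rw [h1]; exact isField_component (Γs i₀))
  have hF : IsField Γ((InterPair.div Γs fun _ => 1).subscheme, ⊤) := hc1 ▸ hc3 (Fin.last s)
  exact exists_chain hreg hΓ hL (cap := m')
    (fun a h0 hle hne => next_primitive hreg hΓ hL hconn hd hm hg h0 hle hne) (fun _ => 1)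
    (fun h => one_ne_zero (congrFun h i₀)) (fun j => Nat.one_le_iff_ne_zero.2 fun h0 =>
      (mult_pos hreg hΓ j).ne' (by rw [hm, h0, mul_zero])) hF

end Groth.L05.EulerDiv
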