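import Groth.Agent.L05.EulerDiv.Length
import Groth.Agent.L21.RR.BaseChange
import Groth.Agent.L16.AffineBC.Pullback
import Groth.Agent.L16.EtaleFibre.Epi
import Groth.Agent.S1026
import Groth.Agent.S4508

/-!
The Euler characteristic of the closed fibre of a flat proper scheme over a DVR.
-/

set_option autoImplicit false
set_option backward.isDefEq.respectTransparency false
set_option linter.style.haveILetI false
set_option linter.unusedSectionVars false
universe u

open CategoryTheory CategoryTheory.Limits AlgebraicGeometry TopologicalSpace Groth.L16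

noncomputable section

namespace Groth.L05.EulerDiv

open Groth.L05.InterPair Groth.L05.FibreDecomp

/-- The Euler characteristic of a fibre, read on any field valued fibre. -/
theorem eulerChar_eq_of_isPullback {X S : Scheme.{u}} (f : X ⟶ S) [IsProper f] [IsLocallyNoetherian S]
    (L : Type u) [Field L] (t : Spec (CommRingCat.of L) ⟶ S) {P : Scheme.{u}} (g : P ⟶ X)
    (q : P ⟶ Spec (CommRingCat.of L)) (sq : IsPullback g q f t) :
    letI : P.Over (Spec (CommRingCat.of L)) := ⟨q⟩
    PerfAux.eulerChar f (Coh.structureModule X) (t (IsLocalRing.closedPoint L)) =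
      Curv2.euler L P (Coh.structureModule P) := by
  letI : P.Over (Spec (CommRingCat.of L)) := ⟨q⟩
  let y := t (IsLocalRing.closedPoint L)
  letI : (f.fiber y).Over (Spec (CommRingCat.of (S.residueField y))) := ⟨f.fiberToSpecResidueField y⟩
  let φ := Scheme.descResidueField (Scheme.stalkClosedPointTo t)
  letI : Algebra (S.residueField y) L := φ.hom.toAlgebra
  have hte : Spec.map φ ≫ S.fromSpecResidueField y = t :=
    Scheme.descResidueField_stalkClosedPointTo_fromSpecResidueField L S t
  let p : P ⟶ f.fiber y := pullback.lift g (q ≫ Spec.map φ) (by rw [Category.assoc, hte]; exact sq.w)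
  have hp : p ≫ f.fiberι y = g := pullback.lift_fst _ _ _
  have sq' : IsPullback p q (f.fiberToSpecResidueField y)
      (Spec.map (CommRingCat.ofHom (algebraMap (S.residueField y) L))) := by
    refine IsPullback.of_right (h₁₂ := f.fiberι y) (h₂₂ := S.fromSpecResidueField y) (v₁₃ := f) ?_ ?_
      (IsPullback.of_hasPullback f (S.fromSpecResidueField y))
    · rw [hp, show CommRingCat.ofHom (algebraMap (S.residueField y) L) = φ from rfl, hte]
      exact sq
    · exact pullback.lift_snd _ _ _
  haveI : IsProper (f.fiberToSpecResidueField y) := MorphismProperty.pullback_snd _ _ inferInstance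
  haveI : IsProper (f.fiber y ↘ Spec (CommRingCat.of (S.residueField y))) :=
    inferInstanceAs (IsProper (f.fiberToSpecResidueField y))
  haveI : IsLocallyNoetherian (f.fiber y) :=
    LocallyOfFiniteType.isLocallyNoetherian (f.fiber y ↘ Spec (CommRingCat.of (S.residueField y)))
  haveI : IsLocallyNoetherian X := LocallyOfFiniteType.isLocallyNoetherian f
  have h := Groth.L21.RR.euler_pullback (k := S.residueField y) (K := L) p sq'
    (Groth.L16.AffineBC.isCoh_pullback (f.fiberι y) (Groth.L16.CohClosedPush.isCoh_structure (X := X)))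
  refine Eq.trans h.symm ?_
  exact Groth.L03.Euler.euler_iso ((Scheme.Modules.pullbackComp p (f.fiberι y)).app _ ≪≫
    (Scheme.Modules.pullbackCongr hp).app _ ≪≫ Groth.L29.LocFree.pullbackUnitIso g)

/-- Only scalars are global functions. -/
theorem h0_eq_one_of_isIso (k : Type u) [Field k] {C : Scheme.{u}} [Nonempty C]
    (f : C ⟶ Spec (CommRingCat.of k)) [IsIso f.appTop] :
    letI : C.Over (Spec (CommRingCat.of k)) := ⟨f⟩
    Module.finrank k (Coh.HH C (Coh.structureModule C) 0) = 1 := by
  classical
  letI : C.Over (Spec (CommRingCat.of k)) := ⟨f⟩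
  let hT : IsTerminal (⊤ : TopologicalSpace.Opens C) :=
    IsTerminal.ofUniqueHom (fun U => homOfLE le_top) (fun _ _ => rfl)
  let F := Coh.toAb (Coh.structureModule C)
  let e : Coh.HH C (Coh.structureModule C) 0 ≃+ Coh.Γtop C := Sheaf.H.equiv₀ F hT
  have he : ∀ (c : k) x, e (c • x) = Coh.toGlobal (C ↘ Spec (CommRingCat.of k)) c * e x := fun c x => by
    show Sheaf.H.equiv₀ F hT (Sheaf.H.map (Coh.smulAb (Coh.structureModule C) _) 0 x) = _
    rw [← Sheaf.H.equiv₀_naturality]
    refine (Coh.smulAb_app (Coh.structureModule C) _ (Opposite.op ⊤) _).trans ?_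
    show Coh.resTop C (Opposite.op ⊤) _ * _ = _
    congr 1
    simp [Coh.resTop]
  haveI : Nontrivial (Coh.Γtop C) :=
    haveI : Nonempty (⊤ : C.Opens) := ⟨⟨Classical.arbitrary C, trivial⟩⟩
    inferInstanceAs (Nontrivial Γ(C, ⊤))
  have hb : Function.Surjective (Coh.toGlobal (C ↘ Spec (CommRingCat.of k))) :=
    (ConcreteCategory.bijective_of_isIso ((Scheme.ΓSpecIso (CommRingCat.of k)).inv ≫ f.appTop)).2
  refine finrank_eq_one_iff'.2 ⟨e.symm 1, fun h0 => ?_, fun w => ?_⟩
  · have h1 := congrArg e h0
    rw [AddEquiv.apply_symm_apply, map_zero] at h1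
    exact one_ne_zero h1
  · obtain ⟨c, hc⟩ := hb (e w)
    refine ⟨c, e.injective ?_⟩
    rw [he, AddEquiv.apply_symm_apply, mul_one]
    exact hc

variable {R : Type u} [CommRing R] [IsDomain R] [IsDiscreteValuationRing R]

theorem ker_pt : (Spec.map (CommRingCat.ofHom (IsLocalRing.residue R))).ker =
    Curv2.idealSheaf R (IsLocalRing.maximalIdeal R) := by
  haveI := isClosedImmersion_pt (R := R)
  refine Scheme.IdealSheafData.ext_of_isAffine ?_
  rw [Scheme.ker_of_isAffine, Curv2.idealSheaf]
  simp only [Scheme.IdealSheafData.ofIdealTop_ideal, homOfLE_refl, op_id, CategoryTheory.Functor.map_id,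
    CommRingCat.hom_id, Ideal.map_id]
  refine Ideal.ext fun z => ?_
  let e := (Scheme.ΓSpecIso (CommRingCat.of R)).commRingCatIsoToRingEquiv
  let e' := (Scheme.ΓSpecIso (CommRingCat.of (IsLocalRing.ResidueField R))).commRingCatIsoToRingEquiv
  have h3 : e' ((Spec.map (CommRingCat.ofHom (IsLocalRing.residue R))).appTop z) = IsLocalRing.residue R (e z) :=
    congrArg (fun φ => φ.hom z) (Scheme.ΓSpecIso_naturality (CommRingCat.ofHom (IsLocalRing.residue R)))
  rw [RingHom.mem_ker, show (Scheme.ΓSpecIso (CommRingCat.of R)).inv.hom = e.symm.toRingHom from rfl,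
    show (IsLocalRing.maximalIdeal R).map e.symm.toRingHom = (IsLocalRing.maximalIdeal R).comap e from
      Ideal.map_symm e, Ideal.mem_comap, ← IsLocalRing.residue_eq_zero_iff]
  exact ⟨fun h => h3.symm.trans ((congrArg e' h).trans (map_zero _)),
    fun h => e'.injective ((h3.trans h).trans (map_zero _).symm)⟩

/-- The Euler characteristic of the closed fibre of a model of a curve. -/
theorem chi_specialFibre (C X : Scheme.{u}) (f : C ⟶ Spec (CommRingCat.of (FractionRing R)))
    (p : X ⟶ Spec (CommRingCat.of R)) (hC : Curve.IsSmoothProperCurve (FractionRing R) C f)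
    (hH0 : IsIso f.appTop) (hX : Models.IsRegularProperModel R X p C f)
    (hvan : ∀ k, 2 ≤ k →
      Subsingleton (Coh.HH X (ClSub.quotMod (Models.specialFibreIdeal R (Over.mk p))) k)) :
    letI : (Over.mk p).left.Over (Spec (CommRingCat.of R)) := ⟨(Over.mk p).hom⟩
    chi R (ClSub.quotMod (Models.specialFibreIdeal R (Over.mk p))) =
      1 - (Models.curveGenus (FractionRing R) C f : ℤ) := by
  letI : (Over.mk p).left.Over (Spec (CommRingCat.of R)) := ⟨(Over.mk p).hom⟩
  obtain ⟨⟨hflat, hft, -, g, hg⟩, hproper, hreg⟩ := hX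
  haveI := hflat
  haveI := hproper
  haveI : IsLocallyNoetherian X := LocallyOfFiniteType.isLocallyNoetherian p
  haveI : IsNoetherianRing (CommRingCat.of R) := inferInstanceAs (IsNoetherianRing R)
  let K := FractionRing R
  let κ := IsLocalRing.ResidueField R
  let j : Spec (CommRingCat.of K) ⟶ Spec (CommRingCat.of R) := Spec.map (CommRingCat.ofHom (algebraMap R K))
  let i : Spec (CommRingCat.of κ) ⟶ Spec (CommRingCat.of R) := Spec.map (CommRingCat.ofHom (IsLocalRing.residue R))
  haveI : IsClosedImmersion i := isClosedImmersion_pt (R := R)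
  -- constancy
  have hfp : CohB1.IsFP (Coh.structureModule X) :=
    Groth.L16.EtaleFibre.isFP_structure
  have hlc := Groth.Agent.S1026.result p (Coh.structureModule X) hfp (Groth.L16.EtaleFibre.isFlatOver_structure p)
  haveI : IsDomain (CommRingCat.of R) := inferInstanceAs (IsDomain R)
  have heq := hlc.apply_eq_of_preconnectedSpace (j (IsLocalRing.closedPoint K)) (i (IsLocalRing.closedPoint κ))
  -- generic fibre
  letI : C.Over (Spec (CommRingCat.of K)) := ⟨f⟩
  haveI : IsProper (C ↘ Spec (CommRingCat.of K)) := hC.1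
  haveI : IsIntegral C := hC.2.2.1
  rw [eulerChar_eq_of_isPullback p K j g f hg] at heq
  have hgen : Curv2.euler K C (Coh.structureModule C) = 1 - (Models.curveGenus K C f : ℤ) := by
    rw [Groth.L21.RR.euler_eq K hC.2.2.2.le]
    simp only [Groth.L21.RR.h]
    rw [h0_eq_one_of_isIso K f]
    rfl
  rw [hgen] at heq
  -- closed fibre
  rw [eulerChar_eq_of_isPullback p κ i (pullback.fst p i) (pullback.snd p i)
    (IsPullback.of_hasPullback p i)] at heq
  let P := pullback p i
  let ι := pullback.fst p i
  letI : P.Over (Spec (CommRingCat.of κ)) := ⟨pullback.snd p i⟩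
  haveI : IsProper (P ↘ Spec (CommRingCat.of κ)) := MorphismProperty.pullback_snd (P := @IsProper) p i inferInstance
  haveI := Groth.L21.RR.isNoetherian_of_proper (X := P) κ
  have hker : ι.ker = Models.specialFibreIdeal R (Over.mk p) := by
    show (pullback.fst p i).ker = _
    rw [Scheme.IdealSheafData.ker_fst_of_isClosedImmersion, ker_pt]
    rfl
  rw [← hker] at hvan ⊢
  haveI : X.IsSeparated := ⟨by rw [← terminal.comp_from p]; infer_instance⟩
  haveI : (Over.mk p).left.IsSeparated := ‹X.IsSeparated›
  let e : (Scheme.Modules.pushforward ι).obj (Coh.structureModule P) ≅ ClSub.quotMod ι.ker :=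
    let e₀ : ι.ker.subscheme ≅ P := (asIso ι.toImage).symm
    (Scheme.Modules.pushforwardCongr (Scheme.Hom.toImage_imageι ι).symm).app _ ≪≫
      ((Scheme.Modules.pushforwardComp ι.toImage ι.ker.subschemeι).app _).symm ≪≫
      (Scheme.Modules.pushforward ι.ker.subschemeι).mapIso
        (((Groth.L19.Conormal.pullbackIsoPush e₀).app _).symm ≪≫ Groth.L29.LocFree.pullbackUnitIso e₀.hom)
  letI : P.Over (Spec (CommRingCat.of R)) := ⟨ι ≫ p⟩
  letI : X.Over (Spec (CommRingCat.of R)) := ⟨(Over.mk p).hom⟩
  have hO := Groth.L16.CohClosedPush.isCoh_structure (X := P)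
  have hlen : ∀ k, Module.length R (Coh.HH (Over.mk p).left (ClSub.quotMod ι.ker) k) =
      (Module.finrank κ (Coh.HH P (Coh.structureModule P) k) : ℕ∞) := fun k => by
    obtain ⟨φ⟩ := exists_HH_push (A := R) (W := (Over.mk p).left) ι (Coh.structureModule P) hO.1 rfl k
    refine ((φ.trans (hhIso (A := R) e k)).length_eq).symm.trans ?_
    haveI : Module.Finite κ (Coh.HH P (Coh.structureModule P) k) := Groth.L21.RR.finite_HH' (k := κ) hO k
    haveI : IsScalarTower R κ (Coh.HH P (Coh.structureModule P) k) :=
      IsScalarTower.of_algebraMap_smul fun r x => by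
        have h0 : Coh.toGlobal (pullback.snd p i) (IsLocalRing.residue R r) = Coh.toGlobal (ι ≫ p) r := by
          rw [pullback.condition]
          simp only [Coh.toGlobal, Scheme.Hom.comp_appTop, CommRingCat.hom_comp, RingHom.comp_apply]
          exact congrArg (fun t => (pullback.snd p i).appTop t)
            congr($(Scheme.ΓSpecIso_inv_naturality (CommRingCat.ofHom (IsLocalRing.residue R))) r)
        exact congrArg (fun c : Coh.Γtop P => c • x) h0
    rw [Module.length_eq_of_surjective (S := R) (R := κ) (M := Coh.HH P (Coh.structureModule P) k)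
      Ideal.Quotient.mk_surjective, Module.length_eq_finrank]
  refine Eq.trans ?_ heq.symm
  rw [Groth.L03.Euler.euler_eq_sum (k := κ) (X := P) (M := Coh.structureModule P) (N := 2) ?_]
  · simp only [chi, hlen, ENat.toNat_natCast, Finset.sum_range_succ, Finset.sum_range_zero]
    ring
  · intro k hk
    obtain ⟨φ⟩ := exists_HH_push (A := R) (W := (Over.mk p).left) ι (Coh.structureModule P) hO.1 rfl k
    haveI : Subsingleton (Coh.HH X (ClSub.quotMod ι.ker) k) := hvan k hk
    exact (φ.trans (hhIso (A := R) e k)).toEquiv.subsingleton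

end Groth.L05.EulerDiv
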