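import Groth.Agent.L05.EulerDiv.Fibre

/-!
The genus formula of a regular model.
-/

set_option autoImplicit false
set_option backward.isDefEq.respectTransparency false
set_option linter.style.haveILetI false
set_option linter.unusedSectionVars false
universe u

open CategoryTheory CategoryTheory.Limits AlgebraicGeometry TopologicalSpace

noncomputable section

namespace Groth.L05.EulerDiv

open Groth.L05.InterPair Groth.L05.FibreDecomp

variable {R : Type u} [CommRing R] [IsDomain R] [IsDiscreteValuationRing R]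
  {X : Over (Spec (CommRingCat.of R))} [IsProper X.hom] [IsLocallyNoetherian X.left]
  [Flat X.hom] [IsIntegral X.left] (hreg : Models.IsRegularScheme X.left) {n : ℕ}
  {Γs : Fin n → ArSurf.VertComp R X} (hΓ : Models.IsComponentList R X Γs) {L : Fin n → X.left.Modules}
  (hL : ∀ i, ClSub.IsInverseOf (L i) (ClSub.idealMod (Γs i).ι.ker))

include hreg hΓ hL

theorem sum_negDeg_eq (a : Fin n → ℕ) (i : Fin n) :
    ∑ j, (a j : ℤ) * negDeg (Γs i) (Γs j).ι.ker =
      -∑ j, (a j : ℤ) * ArSurf.inter R X (L j) (Γs i) := by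
  rw [← Finset.sum_neg_distrib]
  refine Finset.sum_congr rfl fun j _ => ?_
  rw [inter_eq_neg_negDeg (Γs i) (isEffCartier hreg hΓ j) (hL j)]
  ring

/-- The Euler characteristic of a divisor on the special fibre. -/
theorem two_mul_chi_div : letI : X.left.Over (Spec (CommRingCat.of R)) := ⟨X.hom⟩
    ∀ a : Fin n → ℕ, 2 * chi R (ClSub.quotMod (InterPair.div Γs a)) =
      (∑ i, (a i : ℤ) * (2 * ((Models.wdeg R X (Γs i) : ℤ) - (Models.h1 R X (Γs i) : ℤ)) +
          ArSurf.inter R X (L i) (Γs i))) -
        ∑ i, (a i : ℤ) * ∑ j, (a j : ℤ) * ArSurf.inter R X (L j) (Γs i) := by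
  classical
  letI : X.left.Over (Spec (CommRingCat.of R)) := ⟨X.hom⟩
  intro a
  induction a using coeff_induction with
  | h0 =>
    have hz := isZero_quot_div_zero hreg hΓ
    have h : ∀ k, Module.length R (Coh.HH X.left (ClSub.quotMod (InterPair.div Γs fun _ => 0)) k) = 0 :=
      fun k => by
        haveI := Groth.L03.Euler.subsingleton_HH_of_isZero hz k
        exact Module.length_eq_zero
    simp only [chi, h]
    simp
  | hs a i h =>
    have hs := (step hreg hΓ a i (hasLen_div hreg hΓ a)).2
    rw [sum_negDeg_eq hreg hΓ hL a i] at hs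
    rw [hs]
    have hx : ∀ (k : Fin n) (y : ℤ), ((if k = i then (1 : ℕ) else 0 : ℕ) : ℤ) * y = if k = i then y else 0 :=
      fun k y => by split <;> simp
    simp only [Nat.cast_add, add_mul, mul_add, Finset.sum_add_distrib, hx, Finset.sum_ite_eq',
      Finset.mem_univ, if_true]
    have hsym : ∑ k, (a k : ℤ) * ArSurf.inter R X (L i) (Γs k) = ∑ k, (a k : ℤ) * ArSurf.inter R X (L k) (Γs i) :=
      Finset.sum_congr rfl fun k _ => by rw [inter_symm hreg hΓ hL k i]
    simp only [mul_add, Finset.sum_add_distrib] at h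
    linarith

/-- The genus formula. -/
theorem two_mul_chi_specialFibre : letI : X.left.Over (Spec (CommRingCat.of R)) := ⟨X.hom⟩
    2 * chi R (ClSub.quotMod (Models.specialFibreIdeal R X)) =
      ∑ i, (Models.mult R X (Γs i) : ℤ) *
        (2 * ((Models.wdeg R X (Γs i) : ℤ) - (Models.h1 R X (Γs i) : ℤ)) +
          ArSurf.inter R X (L i) (Γs i)) := by
  letI : X.left.Over (Spec (CommRingCat.of R)) := ⟨X.hom⟩
  have h := two_mul_chi_div hreg hΓ hL fun i => Models.mult R X (Γs i)
  rw [specialFibreIdeal_eq_prod hreg hΓ]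
  refine h.trans ?_
  simp only [sum_mult_mul_inter hreg hΓ hL, mul_zero, Finset.sum_const_zero, sub_zero]

end Groth.L05.EulerDiv
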