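import Groth.Agent.L05.EulerDiv.Genus

/-!
The degree of the field of constants divides all degrees on a curve.
-/

set_option autoImplicit false
set_option backward.isDefEq.respectTransparency false
set_option linter.style.haveILetI false
set_option linter.unusedSectionVars false
universe u

open CategoryTheory CategoryTheory.Limits AlgebraicGeometry TopologicalSpace

noncomputable section

namespace Groth.L05.EulerDiv

variable (k : Type u) [Field k] {Y : Scheme.{u}} [Y.Over (Spec (CommRingCat.of k))]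
  [IsProper (Y ↘ Spec (CommRingCat.of k))] [IsIntegral Y]

include k in
/-- The constants of an integral proper scheme are a field. -/
theorem isField_Γtop : IsField Γ(Y, ⊤) := by
  let s := Y ↘ Spec (CommRingCat.of k)
  letI : Algebra k Γ(Y, ⊤) := ((s.appTop).hom.comp (Scheme.ΓSpecIso (CommRingCat.of k)).inv.hom).toAlgebra
  haveI : Algebra.IsIntegral k Γ(Y, ⊤) := ⟨by
    exact (RingHom.IsIntegral.trans _ _ (RingHom.isIntegral_of_surjective _
      (Scheme.ΓSpecIso (CommRingCat.of k)).symm.commRingCatIsoToRingEquiv.surjective)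
      (isIntegral_appTop_of_universallyClosed s))⟩
  haveI : IsDomain Γ(Y, ⊤) := inferInstance
  exact isField_of_isIntegral_of_isField' (R := k) (Field.toIsField k)

/-- `dim H⁰(O)` is positive and divides the dimension of every cohomology group of every module. -/
theorem h0_dvd :
    0 < Module.finrank k (Coh.HH Y (Coh.structureModule Y) 0) ∧
      ∀ (M : Y.Modules) (i : ℕ),
        Module.finrank k (Coh.HH Y (Coh.structureModule Y) 0) ∣ Module.finrank k (Coh.HH Y M i) := by
  classical
  let s := Y ↘ Spec (CommRingCat.of k)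
  letI : Algebra k Γ(Y, ⊤) := ((s.appTop).hom.comp (Scheme.ΓSpecIso (CommRingCat.of k)).inv.hom).toAlgebra
  letI : Field Γ(Y, ⊤) := (isField_Γtop k).toField
  let hT : IsTerminal (⊤ : TopologicalSpace.Opens Y) :=
    IsTerminal.ofUniqueHom (fun U => homOfLE le_top) (fun _ _ => rfl)
  let F := Coh.toAb (Coh.structureModule Y)
  let e : Coh.HH Y (Coh.structureModule Y) 0 ≃+ Γ(Y, ⊤) := Sheaf.H.equiv₀ F hT
  have he : ∀ (c : k) x, e (c • x) = c • e x := fun c x => by
    show _ = (s.appTop).hom ((Scheme.ΓSpecIso (CommRingCat.of k)).inv.hom c) * e x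
    show Sheaf.H.equiv₀ F hT (Sheaf.H.map (Coh.smulAb (Coh.structureModule Y) _) 0 x) = _
    rw [← Sheaf.H.equiv₀_naturality]
    refine (Coh.smulAb_app (Coh.structureModule Y) _ (Opposite.op ⊤) _).trans ?_
    show Coh.resTop Y (Opposite.op ⊤) _ * _ = _
    congr 1
    simp [Coh.resTop, s]
    rfl
  let el : Coh.HH Y (Coh.structureModule Y) 0 ≃ₗ[k] Γ(Y, ⊤) := { e with map_smul' := he }
  haveI := Groth.L21.RR.isNoetherian_of_proper (X := Y) k
  have hO := Groth.L16.CohClosedPush.isCoh_structure (X := Y)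
  haveI : Module.Finite k (Coh.HH Y (Coh.structureModule Y) 0) := Groth.L21.RR.finite_HH' (k := k) hO 0
  haveI : Module.Finite k Γ(Y, ⊤) := Module.Finite.equiv el
  rw [el.finrank_eq]
  refine ⟨Module.finrank_pos, fun M i => ?_⟩
  letI : Module Γ(Y, ⊤) (Coh.HH Y M i) := inferInstanceAs (Module (Coh.Γtop Y) (Coh.HH Y M i))
  haveI : IsScalarTower k Γ(Y, ⊤) (Coh.HH Y M i) := IsScalarTower.of_algebraMap_smul fun _ _ => rfl
  exact ⟨Module.finrank Γ(Y, ⊤) (Coh.HH Y M i), (Module.finrank_mul_finrank k Γ(Y, ⊤) _).symm⟩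

variable {R : Type u} [CommRing R] [IsDomain R] [IsDiscreteValuationRing R]
  {X : Over (Spec (CommRingCat.of R))} [IsProper X.hom] [IsLocallyNoetherian X.left]
  (Γ : ArSurf.VertComp R X)

local notation "κ" => IsLocalRing.ResidueField R

theorem wdeg_pos : 0 < Models.wdeg R X Γ := by
  haveI := Groth.L05.InterPair.isProper_curve Γ
  exact (h0_dvd κ (Y := Γ.curve.left)).1

theorem wdeg_dvd_h1 : Models.wdeg R X Γ ∣ Models.h1 R X Γ := by
  haveI := Groth.L05.InterPair.isProper_curve Γ
  exact (h0_dvd κ (Y := Γ.curve.left)).2 _ 1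

theorem wdeg_dvd_inter (L : X.left.Modules) : (Models.wdeg R X Γ : ℤ) ∣ ArSurf.inter R X L Γ := by
  haveI := Groth.L05.InterPair.isProper_curve Γ
  have hd : topologicalKrullDim Γ.curve.left ≤ 1 := Γ.dim_eq.le
  have h := (h0_dvd κ (Y := Γ.curve.left)).2
  rw [ArSurf.inter, Groth.L05.InterPair.curveDeg_eq_euler κ Γ.dim_eq, Groth.L21.RR.euler_eq κ hd,
    Groth.L21.RR.euler_eq κ hd]
  exact dvd_sub (dvd_sub (Int.natCast_dvd_natCast.2 (h _ 0)) (Int.natCast_dvd_natCast.2 (h _ 1)))
    (dvd_sub (Int.natCast_dvd_natCast.2 (h _ 0)) (Int.natCast_dvd_natCast.2 (h _ 1)))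

end Groth.L05.EulerDiv
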