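import Groth.Agent.L05.EulerDiv.Seq
import Groth.Agent.L05.InterPair.Twist
import Groth.Agent.L05.InterPair.Length
import Groth.Agent.L16.EulerLength
import Groth.Agent.L22.Inter.Fga
import Groth.Agent.L19.ConormalAffine

/-!
Euler characteristics, in lengths over the base, of divisors on the special fibre.
-/

set_option autoImplicit false
set_option backward.isDefEq.respectTransparency false
set_option linter.style.haveILetI false
set_option linter.unusedSectionVars false
universe u

open CategoryTheory CategoryTheory.Limits AlgebraicGeometry TopologicalSpace Groth.L16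

noncomputable section

namespace Groth.L05.EulerDiv

open Groth.L05.InterPair Groth.L05.FibreDecomp
open Groth.L16.CohLinear (hmap delta overLin exact_hmap_hmap exact_hmap_delta exact_delta_hmap)
open Groth.L00.Tensor (tensorIso tensorUnitRight)

section LinAlg

variable {A : Type u} [CommRing A] {P Q S : Type u} [AddCommGroup P] [Module A P] [AddCommGroup Q]
  [Module A Q] [AddCommGroup S] [Module A S]

theorem length_exact (f : P →ₗ[A] Q) (g : Q →ₗ[A] S) (h : Function.Exact f g) :
    Module.length A Q = Module.length A (LinearMap.range f) + Module.length A (LinearMap.range g) :=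
  Module.length_eq_add_of_exact (LinearMap.range f).subtype g.rangeRestrict
    (Submodule.subtype_injective _) g.surjective_rangeRestrict (by
      rw [LinearMap.exact_iff, LinearMap.ker_rangeRestrict, Submodule.range_subtype]
      exact LinearMap.exact_iff.1 h)

theorem length_ne_top_of_exact (f : P →ₗ[A] Q) (g : Q →ₗ[A] S) (h : Function.Exact f g)
    (hP : Module.length A P ≠ ⊤) (hS : Module.length A S ≠ ⊤) : Module.length A Q ≠ ⊤ := by
  rw [length_exact f g h]
  exact WithTop.add_ne_top.2
    ⟨ne_top_of_le_ne_top hP (Module.length_le_of_surjective f.rangeRestrict f.surjective_rangeRestrict),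
      ne_top_of_le_ne_top hS (Module.length_le_of_injective (LinearMap.range g).subtype
        (Submodule.subtype_injective _))⟩

theorem toNat_exact (f : P →ₗ[A] Q) (g : Q →ₗ[A] S) (h : Function.Exact f g) (hQ : Module.length A Q ≠ ⊤) :
    (Module.length A Q).toNat =
      (Module.length A (LinearMap.range f)).toNat + (Module.length A (LinearMap.range g)).toNat := by
  have h1 := length_exact f g h
  rw [h1] at hQ
  rw [h1, ENat.toNat_add (WithTop.add_ne_top.1 hQ).1 (WithTop.add_ne_top.1 hQ).2]

end LinAlg

section SES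

variable (A : Type u) [CommRing A] {Z : Scheme.{u}} [Z.Over (Spec (CommRingCat.of A))]

/-- Finite lengths of cohomology in degrees zero and one. -/
def HasLen (F : Z.Modules) : Prop := ∀ i ≤ 1, Module.length A (Coh.HH Z F i) ≠ ⊤

/-- The difference of the lengths of `H⁰` and `H¹`. -/
def chi (F : Z.Modules) : ℤ :=
  ((Module.length A (Coh.HH Z F 0)).toNat : ℤ) - ((Module.length A (Coh.HH Z F 1)).toNat : ℤ)

variable {A}

theorem hasLen_middle {S : ShortComplex Z.Modules} (hS : S.ShortExact) (h1 : HasLen A S.X₁)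
    (h3 : HasLen A S.X₃) : HasLen A S.X₂ := fun i hi =>
  length_ne_top_of_exact (overLin A (hmap S.f i)) (overLin A (hmap S.g i)) (exact_hmap_hmap hS i) (h1 i hi) (h3 i hi)

theorem chi_add {S : ShortComplex Z.Modules} (hS : S.ShortExact) (h1 : HasLen A S.X₁) (h3 : HasLen A S.X₃)
    (h12 : Subsingleton (Coh.HH Z S.X₁ 2)) : chi A S.X₂ = chi A S.X₁ + chi A S.X₃ := by
  have h2 := hasLen_middle hS h1 h3
  have hi : Function.Injective (overLin A (hmap S.f 0)) := by
    haveI := hS.mono_f
    exact Groth.L21.RR.injective_hmap_zero S.f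
  have a0 : (Module.length A (Coh.HH Z S.X₁ 0)).toNat =
      (Module.length A (LinearMap.range (overLin A (hmap S.f 0)))).toNat :=
    congrArg ENat.toNat (LinearEquiv.ofInjective _ hi).length_eq
  have b0 := toNat_exact _ _ (show Function.Exact (overLin A (hmap S.f 0)) (overLin A (hmap S.g 0)) from
    exact_hmap_hmap hS 0) (h2 0 zero_le_one)
  have c0 := toNat_exact _ _ (show Function.Exact (overLin A (hmap S.g 0)) (overLin A (delta hS 0)) from
    exact_hmap_delta hS 0) (h3 0 zero_le_one)
  have a1 := toNat_exact _ _ (show Function.Exact (overLin A (delta hS 0)) (overLin A (hmap S.f 1)) from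
    exact_delta_hmap hS 0) (h1 1 le_rfl)
  have b1 := toNat_exact _ _ (show Function.Exact (overLin A (hmap S.f 1)) (overLin A (hmap S.g 1)) from
    exact_hmap_hmap hS 1) (h2 1 le_rfl)
  have c1 := toNat_exact _ _ (show Function.Exact (overLin A (hmap S.g 1)) (overLin A (delta hS 1)) from
    exact_hmap_delta hS 1) (h3 1 le_rfl)
  have hd : (Module.length A (LinearMap.range (overLin A (delta hS 1)))).toNat = 0 := by
    haveI : Subsingleton (LinearMap.range (overLin A (delta hS 1))) :=
      (Submodule.subtype_injective _).subsingleton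
    rw [Module.length_eq_zero, ENat.toNat_zero]
  have e01 : (Module.length A (Coh.HH Z S.X₁ (0 + 1))).toNat = (Module.length A (Coh.HH Z S.X₁ 1)).toNat := rfl
  simp only [chi]
  omega

end SES

variable {R : Type u} [CommRing R] [IsDomain R] [IsDiscreteValuationRing R]
  {X : Over (Spec (CommRingCat.of R))}

local notation "κ" => IsLocalRing.ResidueField R

/-- The ideal module of a vertical curve: `O_X / I_Γ` is the direct image of `O_Γ`. -/
theorem nonempty_push_curve (Γ : ArSurf.VertComp R X) :
    Nonempty ((Scheme.Modules.pushforward Γ.ι).obj (Coh.structureModule Γ.curve.left) ≅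
      ClSub.quotMod Γ.ι.ker) := by
  let e : Γ.ι.ker.subscheme ≅ Γ.curve.left := (asIso Γ.ι.toImage).symm
  exact ⟨(Scheme.Modules.pushforwardCongr (Scheme.Hom.toImage_imageι Γ.ι).symm).app _ ≪≫
    ((Scheme.Modules.pushforwardComp Γ.ι.toImage Γ.ι.ker.subschemeι).app _).symm ≪≫
    (Scheme.Modules.pushforward Γ.ι.ker.subschemeι).mapIso
      (((Groth.L19.Conormal.pullbackIsoPush e).app _).symm ≪≫ Groth.L29.LocFree.pullbackUnitIso e.hom)⟩

variable [IsProper X.hom] [IsLocallyNoetherian X.left]

/-- An invertible module restricted to a vertical curve, seen on the surface. -/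
theorem lengths_tensor_quot (Γ : ArSurf.VertComp R X) {M : X.left.Modules} (hM : PicF.IsInvertible M) :
    letI : X.left.Over (Spec (CommRingCat.of R)) := ⟨X.hom⟩
    HasLen R (CohB1.tensorMod M (ClSub.quotMod Γ.ι.ker)) ∧
      (∀ k, 2 ≤ k → Subsingleton (Coh.HH X.left (CohB1.tensorMod M (ClSub.quotMod Γ.ι.ker)) k)) ∧
      chi R (CohB1.tensorMod M (ClSub.quotMod Γ.ι.ker)) =
        ArSurf.inter R X M Γ + ((Models.wdeg R X Γ : ℤ) - (Models.h1 R X Γ : ℤ)) := by
  letI : X.left.Over (Spec (CommRingCat.of R)) := ⟨X.hom⟩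
  haveI := isProper_curve Γ
  haveI := Groth.L21.RR.isNoetherian_of_proper (X := Γ.curve.left) κ
  haveI : X.left.IsSeparated := ⟨by rw [← terminal.comp_from X.hom]; infer_instance⟩
  set N := (Scheme.Modules.pullback Γ.ι).obj M
  have hNi : PicF.IsInvertible N := Groth.L18.Ample.isInvertible_pullback Γ.ι hM
  have hNc := Groth.L16.ProperFinite.isCoh_of_isInvertible hNi
  haveI := Groth.L17.ProjFormula.isIso_θ Γ.ι M (Coh.structureModule Γ.curve.left)
    (Groth.L16.Existence.isFinLocFree_of_isInvertible hM)
  obtain ⟨q⟩ := nonempty_push_curve Γ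
  let e : CohB1.tensorMod M (ClSub.quotMod Γ.ι.ker) ≅ (Scheme.Modules.pushforward Γ.ι).obj N :=
    tensorIso (Iso.refl M) q.symm ≪≫
      asIso (Groth.L17.ClosedPush.θ Γ.ι (Coh.structureModule Γ.curve.left) M) ≪≫
      (Scheme.Modules.pushforward Γ.ι).mapIso (tensorUnitRight _)
  letI : Γ.curve.left.Over (Spec (CommRingCat.of R)) := ⟨Γ.ι ≫ X.hom⟩
  have hd : topologicalKrullDim Γ.curve.left ≤ ((1 : ℕ) : WithBot ℕ∞) := by rw [Γ.dim_eq, Nat.cast_one]
  have hlen : ∀ i, Module.length R (Coh.HH X.left (CohB1.tensorMod M (ClSub.quotMod Γ.ι.ker)) i) =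
      (Module.finrank κ (Coh.HH Γ.curve.left N i) : ℕ∞) := fun i => by
    obtain ⟨φ⟩ := exists_HH_push (A := R) Γ.ι N hNc.1 rfl i
    rw [(hhIso (A := R) e i).length_eq]
    refine φ.length_eq.symm.trans ?_
    haveI : Module.Finite κ (Coh.HH Γ.curve.left N i) := Groth.L21.RR.finite_HH' (k := κ) hNc i
    haveI : IsScalarTower R κ (Coh.HH Γ.curve.left N i) :=
      IsScalarTower.of_algebraMap_smul fun r x => by
        have h0 : Coh.toGlobal Γ.curve.hom (IsLocalRing.residue R r) = Coh.toGlobal (Γ.ι ≫ X.hom) r := by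
          rw [Γ.w]
          simp only [Coh.toGlobal, Scheme.Hom.comp_appTop, CommRingCat.hom_comp, RingHom.comp_apply]
          exact congrArg (fun t => Γ.curve.hom.appTop t)
            congr($(Scheme.ΓSpecIso_inv_naturality (CommRingCat.ofHom (IsLocalRing.residue R))) r)
        exact congrArg (fun c : Coh.Γtop Γ.curve.left => c • x) h0
    rw [Module.length_eq_of_surjective (S := R) (R := κ) (M := Coh.HH Γ.curve.left N i)
      Ideal.Quotient.mk_surjective, Module.length_eq_finrank]
  refine ⟨fun i _ => by rw [hlen i]; exact ENat.coe_ne_top _, fun k hk => ?_, ?_⟩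
  · obtain ⟨φ⟩ := exists_HH_push (A := R) Γ.ι N hNc.1 rfl k
    haveI := Groth.L22.Inter.subsingleton_HH_of_dim hd N (show 1 < k by omega)
    exact ((hhIso (A := R) e k).trans φ.symm).toEquiv.subsingleton
  · have hd' : topologicalKrullDim Γ.curve.left ≤ 1 := Γ.dim_eq.le
    simp only [chi, hlen, ENat.toNat_natCast]
    rw [ArSurf.inter, curveDeg_eq_euler κ Γ.dim_eq, Groth.L21.RR.euler_eq κ hd', Groth.L21.RR.euler_eq κ hd']
    simp only [Groth.L21.RR.h, Models.wdeg, Models.h1]
    ring

variable [Flat X.hom] [IsIntegral X.left] (hreg : Models.IsRegularScheme X.left) {n : ℕ}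
  {Γs : Fin n → ArSurf.VertComp R X} (hΓ : Models.IsComponentList R X Γs)

include hreg hΓ

theorem div_add_single (a : Fin n → ℕ) (i : Fin n) :
    InterPair.div Γs (fun j => a j + if j = i then 1 else 0) = InterPair.div Γs a * (Γs i).ι.ker := by
  classical
  simp only [InterPair.div, pow_add, Finset.prod_mul_distrib, pow_ite, pow_one, pow_zero]
  rw [Finset.prod_ite_eq' Finset.univ i (fun j => (Γs j).ι.ker), if_pos (Finset.mem_univ i)]

/-- Adding one component to a divisor on the special fibre. -/
theorem step (a : Fin n → ℕ) (i : Fin n) :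
    letI : X.left.Over (Spec (CommRingCat.of R)) := ⟨X.hom⟩
    HasLen R (ClSub.quotMod (InterPair.div Γs a)) →
      HasLen R (ClSub.quotMod (InterPair.div Γs fun j => a j + if j = i then 1 else 0)) ∧
      chi R (ClSub.quotMod (InterPair.div Γs fun j => a j + if j = i then 1 else 0)) =
        chi R (ClSub.quotMod (InterPair.div Γs a)) +
          ((∑ j, (a j : ℤ) * negDeg (Γs i) (Γs j).ι.ker) +
            ((Models.wdeg R X (Γs i) : ℤ) - (Models.h1 R X (Γs i) : ℤ))) := by
  classical
  letI : X.left.Over (Spec (CommRingCat.of R)) := ⟨X.hom⟩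
  intro hL
  have hI := isEffCartier_div hreg hΓ a
  have hmul := div_add_single hreg hΓ a i
  obtain ⟨h1, h2, h3⟩ := lengths_tensor_quot (Γs i)
    ((Groth.Agent.L19.IdealInvertible.isEffCartier_iff _).2 hI)
  obtain ⟨f, g, w, hS, -⟩ := exists_shortExact_quot (InterPair.div Γs a) (Γs i).ι.ker hI
  have hA := hasLen_middle (A := R) hS h1 hL
  have hB := chi_add (A := R) hS h1 hL (h2 2 le_rfl)
  have hN := negDeg_div hreg hΓ (Γs i) a
  simp only [negDeg] at hN
  rw [hmul]
  refine ⟨hA, ?_⟩
  simp only [negDeg]
  rw [hB, h3, hN]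
  ring

omit hreg hΓ in
/-- Induction over the effective divisors by adding one component at a time. -/
theorem coeff_induction {P : (Fin n → ℕ) → Prop} (h0 : P fun _ => 0)
    (hs : ∀ a i, P a → P fun j => a j + if j = i then 1 else 0) (a : Fin n → ℕ) : P a := by
  classical
  suffices ∀ (m : ℕ) (a : Fin n → ℕ), ∑ j, a j = m → P a from this _ a rfl
  intro m
  induction m with
  | zero =>
    intro a ha
    rw [show a = fun _ => 0 from funext fun j => Finset.sum_eq_zero_iff.1 ha j (Finset.mem_univ j)]
    exact h0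
  | succ m ih =>
    intro a ha
    obtain ⟨i, hi⟩ : ∃ i, 0 < a i := by
      by_contra h
      push Not at h
      rw [Finset.sum_eq_zero fun j _ => Nat.le_zero.1 (h j)] at ha
      omega
    have hae : a = fun j => Function.update a i (a i - 1) j + if j = i then 1 else 0 := by
      funext j
      rcases eq_or_ne j i with rfl | hj
      · rw [Function.update_self, if_pos rfl]; omega
      · rw [Function.update_of_ne hj, if_neg hj, add_zero]
    rw [hae]
    refine hs _ i (ih _ ?_)
    have hsum := Finset.sum_update_of_mem (Finset.mem_univ i) a (a i - 1)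
    have hsum' := Finset.sum_eq_add_sum_sdiff_singleton_of_mem (Finset.mem_univ i) a
    omega

theorem isZero_quot_div_zero : IsZero (ClSub.quotMod (InterPair.div Γs fun _ => 0)) := by
  have h1 : InterPair.div Γs (fun _ => 0) = 1 := Finset.prod_eq_one fun j _ => pow_zero _
  rw [h1]
  exact (Groth.L21.Mod.isZero_iff_stalk_subsingleton _).2 fun x =>
    Groth.L21.RR.subsingleton_stalk_quotMod 1 (by simp)

theorem hasLen_div : letI : X.left.Over (Spec (CommRingCat.of R)) := ⟨X.hom⟩
    ∀ a : Fin n → ℕ, HasLen R (ClSub.quotMod (InterPair.div Γs a)) := by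
  letI : X.left.Over (Spec (CommRingCat.of R)) := ⟨X.hom⟩
  intro a
  induction a using coeff_induction with
  | h0 =>
    intro k _
    haveI := Groth.L03.Euler.subsingleton_HH_of_isZero (isZero_quot_div_zero hreg hΓ) k
    rw [Module.length_eq_zero]
    exact ENat.zero_ne_top
  | hs a i h => exact (step hreg hΓ a i h).1

/-- No cohomology above degree one. -/
theorem subsingleton_div (a : Fin n → ℕ) (k : ℕ) (hk : 2 ≤ k) :
    Subsingleton (Coh.HH X.left (ClSub.quotMod (InterPair.div Γs a)) k) := by
  letI : X.left.Over (Spec (CommRingCat.of R)) := ⟨X.hom⟩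
  induction a using coeff_induction with
  | h0 => exact Groth.L03.Euler.subsingleton_HH_of_isZero (isZero_quot_div_zero hreg hΓ) k
  | hs a i h =>
    have hI := isEffCartier_div hreg hΓ a
    obtain ⟨f, g, w, hS, -⟩ := exists_shortExact_quot (InterPair.div Γs a) (Γs i).ι.ker hI
    haveI h1 := (lengths_tensor_quot (Γs i)
      ((Groth.Agent.L19.IdealInvertible.isEffCartier_iff _).2 hI)).2.1 k hk
    rw [div_add_single hreg hΓ a i]
    refine subsingleton_of_forall_eq 0 fun x => ?_
    obtain ⟨y, rfl⟩ := (exact_hmap_hmap hS k x).1 (Subsingleton.elim _ _)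
    rw [Subsingleton.elim y 0, map_zero]

end Groth.L05.EulerDiv
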