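import Groth.Agent.L21.RR.Twist
import Groth.Agent.L21.RR.PointPow
import Groth.Agent.L21.RR.IdealTwist
import Groth.Agent.L21.RR.Equality
import Groth.Agent.L22.Ideal
import Groth.Agent.L19.IdealInvertible

/-!
The restriction sequence of a product of ideals: `0 → I ⊗ O/D → O/(I·D) → O/I → 0` for invertible `I`.
-/

set_option autoImplicit false
set_option backward.isDefEq.respectTransparency false
set_option linter.style.haveILetI false
set_option linter.unusedSectionVars false
universe u

open CategoryTheory CategoryTheory.Limits AlgebraicGeometry TopologicalSpace Opposite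

noncomputable section

namespace Groth.L05.EulerDiv

open Groth.L21.RR

variable {X : Scheme.{u}}

/-- Exactness of the ideal sequence on a stalk, read through the generator `1`. -/
theorem st_toSubscheme_smul_one (J : X.IdealSheafData) {x : X} {V : X.Opens} (hV : IsAffineOpen V)
    (hxV : x ∈ V) (r : X.presheaf.stalk x) :
    st (ClSub.toSubscheme J) x (r • one X x) = 0 ↔
      r ∈ (J.ideal ⟨V, hV⟩).map (X.presheaf.germ V x hxV).hom := by
  have hex := (ShortComplex.moduleCat_exact_iff _).1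
    ((shortExact_idealSeq J).exact.map (Groth.L00.Stk.F X x))
  constructor
  · intro h
    obtain ⟨u, hu⟩ := hex (r • one X x) h
    obtain ⟨s, hs, e⟩ := (range_st_idealModι J hV hxV _).1 ⟨u, hu⟩
    exact (bijective_smul_one x).1 e ▸ hs
  · intro hr
    obtain ⟨u, hu⟩ := (range_st_idealModι J hV hxV _).2 ⟨r, hr, rfl⟩
    rw [← hu, ← st_comp]
    show st (ClSub.idealModι J ≫ ClSub.toSubscheme J) x u = 0
    rw [show ClSub.idealModι J ≫ ClSub.toSubscheme J = 0 from (idealSeq J).zero]
    simp only [st, Functor.map_zero]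
    rfl

/-- The kernel of `L → L ⊗ O/D` on a stalk. -/
theorem st_twπ_smul {L : X.Modules} (D : X.IdealSheafData) {x : X} {V : X.Opens} (hV : IsAffineOpen V)
    (hxV : x ∈ V) {e : L.presheaf.stalk x} (he : Function.Bijective fun a : X.presheaf.stalk x => a • e)
    (a : X.presheaf.stalk x) :
    st (twπ L D) x (a • e) = 0 ↔ a ∈ (D.ideal ⟨V, hV⟩).map (X.presheaf.germ V x hxV).hom := by
  let i := (Groth.L00.Tensor.tensorUnitRight L).inv
  let θ := tensorStalkEquiv (L := L) (Coh.structureModule X) he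
  have hi : Function.Bijective (st i x) :=
    ConcreteCategory.bijective_of_isIso ((Groth.L00.Stk.F X x).map i)
  obtain ⟨c, hc⟩ := (bijective_smul_one x).2 (θ (st i x e))
  have hc' : c • one X x = θ (st i x e) := hc
  obtain ⟨v, hv⟩ := (θ.bijective.comp hi).2 (one X x)
  obtain ⟨b, rfl⟩ := he.2 v
  have hbc : b * c = 1 := (bijective_smul_one x).1 (by
    show (b * c) • one X x = (1 : X.presheaf.stalk x) • one X x
    rw [one_smul, mul_smul, hc', ← map_smul, ← map_smul]
    exact hv)
  have hu : IsUnit c := IsUnit.of_mul_eq_one_right b hbc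
  have hw : st (twπ L D) x (a • e) =
      st (((DCoh.tensorBi (X := X)).obj L).map (ClSub.toSubscheme D)) x (st i x (a • e)) := st_comp _ _ _ _
  rw [← (tensorStalkEquiv (L := L) (ClSub.quotMod D) he).map_eq_zero_iff, hw,
    tensorStalkEquiv_natural (ClSub.toSubscheme D) he, map_smul, map_smul, ← hc', smul_smul,
    st_toSubscheme_smul_one D hV hxV, Ideal.mul_unit_mem_iff_mem _ hu]

/-- For an invertible ideal, `0 → I ⊗ O/D → O/(I·D) → O/I → 0`. -/
theorem exists_shortExact_quot (I D : X.IdealSheafData) (hI : BlowUp.IsEffCartierIdeal I) :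
    ∃ (f : CohB1.tensorMod (ClSub.idealMod I) (ClSub.quotMod D) ⟶ ClSub.quotMod (I * D))
      (g : ClSub.quotMod (I * D) ⟶ ClSub.quotMod I) (w : f ≫ g = 0),
      (ShortComplex.mk f g w).ShortExact ∧ ClSub.toSubscheme (I * D) ≫ g = ClSub.toSubscheme I := by
  set M := ClSub.idealMod I
  have hM : PicF.IsInvertible M := (Groth.Agent.L19.IdealInvertible.isEffCartier_iff I).2 hI
  have key : ∀ x : X, ∃ (V : X.Opens) (hV : IsAffineOpen V) (hxV : x ∈ V) (e : M.presheaf.stalk x)
      (g : X.presheaf.stalk x), (Function.Bijective fun a : X.presheaf.stalk x => a • e) ∧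
      st (ClSub.idealModι I) x e = g • one X x ∧
      (I.ideal ⟨V, hV⟩).map (X.presheaf.germ V x hxV).hom = Ideal.span {g} := by
    intro x
    obtain ⟨V, hV, hxV, -⟩ := exists_isAffineOpen_mem_and_subset (x := x) (U := ⊤) trivial
    obtain ⟨e, he⟩ := exists_frame_stalk hM x
    obtain ⟨g, hg, hge⟩ := (range_st_idealModι I hV hxV _).1 ⟨e, rfl⟩
    refine ⟨V, hV, hxV, e, g, he, hge.symm, le_antisymm ?_ ?_⟩
    · intro r hr
      obtain ⟨u, hu⟩ := (range_st_idealModι I hV hxV _).2 ⟨r, hr, rfl⟩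
      obtain ⟨a, rfl⟩ := he.2 u
      rw [map_smul, ← hge, smul_smul] at hu
      exact Ideal.mem_span_singleton'.2 ⟨a, (bijective_smul_one x).1 hu⟩
    · rw [Ideal.span_le, Set.singleton_subset_iff]
      exact hg
  have hprod : ∀ {x : X} {V : X.Opens} (hV : IsAffineOpen V) (hxV : x ∈ V),
      ((I * D).ideal ⟨V, hV⟩).map (X.presheaf.germ V x hxV).hom =
        (I.ideal ⟨V, hV⟩).map (X.presheaf.germ V x hxV).hom *
          (D.ideal ⟨V, hV⟩).map (X.presheaf.germ V x hxV).hom := fun hV hxV => by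
    rw [Scheme.IdealSheafData.ideal_mul, Pi.mul_apply, Ideal.map_mul]
  have hSE := shortExact_tw D hM
  haveI : Epi (twπ M D) := hSE.epi_g
  let k := ClSub.idealModι I ≫ ClSub.toSubscheme (I * D)
  have hk : twι M D ≫ k = 0 := by
    refine (Groth.L21.Mod.eq_zero_iff_stalk _).2 fun x => ?_
    ext v
    obtain ⟨V, hV, hxV, e, g, he, hge, hI'⟩ := key x
    obtain ⟨a, ha⟩ := he.2 (st (twι M D) x v)
    have h0 : st (twπ M D) x (a • e) = 0 := by
      rw [show a • e = st (twι M D) x v from ha, ← st_comp, twι_twπ]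
      simp only [st, Functor.map_zero]
      rfl
    show st (twι M D ≫ k) x v = 0
    rw [st_comp, ← ha, st_comp, map_smul, hge, smul_smul, st_toSubscheme_smul_one (I * D) hV hxV, hprod,
      mul_comm a g]
    exact Ideal.mul_mem_mul (by rw [hI']; exact Ideal.mem_span_singleton_self g) ((st_twπ_smul D hV hxV he a).1 h0)
  let f : CohB1.tensorMod M (ClSub.quotMod D) ⟶ ClSub.quotMod (I * D) := hSE.exact.desc k hk
  have hf : twπ M D ≫ f = k := hSE.exact.g_desc k hk
  have hle : ClSub.idealModι (I * D) ≫ ClSub.toSubscheme I = 0 := by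
    refine (Groth.L21.Mod.eq_zero_iff_stalk _).2 fun x => ?_
    ext v
    obtain ⟨V, hV, hxV, -⟩ := key x
    obtain ⟨r, hr, hrv⟩ := (range_st_idealModι (I * D) hV hxV _).1 ⟨v, rfl⟩
    show st (ClSub.idealModι (I * D) ≫ ClSub.toSubscheme I) x v = 0
    rw [st_comp, ← hrv, st_toSubscheme_smul_one I hV hxV]
    rw [hprod] at hr
    exact (Ideal.mul_le_inf hr).1
  have hSJ := shortExact_idealSeq (I * D)
  haveI : Epi (ClSub.toSubscheme (I * D)) := hSJ.epi_g
  haveI : Epi (idealSeq (I * D)).g := hSJ.epi_g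
  let g : ClSub.quotMod (I * D) ⟶ ClSub.quotMod I := hSJ.exact.desc (ClSub.toSubscheme I) hle
  have hg : ClSub.toSubscheme (I * D) ≫ g = ClSub.toSubscheme I := hSJ.exact.g_desc _ hle
  have w : f ≫ g = 0 := by
    rw [← cancel_epi (twπ M D), reassoc_of% hf, comp_zero]
    show (ClSub.idealModι I ≫ ClSub.toSubscheme (I * D)) ≫ g = 0
    rw [Category.assoc, hg]
    exact (idealSeq I).zero
  have hfv : ∀ (x : X) (v : M.presheaf.stalk x), st f x (st (twπ M D) x v) =
      st (ClSub.toSubscheme (I * D)) x (st (ClSub.idealModι I) x v) := fun x v => by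
    rw [← st_comp, hf, st_comp]
  have hsurjπ := (Groth.L21.Mod.epi_iff_stalk_surjective (twπ M D)).1 inferInstance
  have hsurjJ := (Groth.L21.Mod.epi_iff_stalk_surjective (ClSub.toSubscheme (I * D))).1 inferInstance
  haveI : Mono f := by
    refine (Groth.L21.Mod.mono_iff_stalk_injective f).2 fun x => ?_
    refine (injective_iff_map_eq_zero (st f x).toAddMonoidHom).2 fun v hv => ?_
    obtain ⟨u, rfl⟩ := hsurjπ x v
    obtain ⟨V, hV, hxV, e, t, he, hte, hI'⟩ := key x
    obtain ⟨a, rfl⟩ := he.2 u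
    have h1 : st f x (st (twπ M D) x (a • e)) = 0 := hv
    rw [hfv, map_smul, hte, smul_smul, st_toSubscheme_smul_one (I * D) hV hxV, hprod, hI',
      Ideal.mem_span_singleton_mul] at h1
    obtain ⟨d, hd, hdt⟩ := h1
    show st (twπ M D) x (a • e) = 0
    have hti : st (ClSub.idealModι I) x (d • e) = st (ClSub.idealModι I) x (a • e) := by
      rw [map_smul, map_smul, hte, smul_smul, smul_smul, mul_comm d, hdt]
    haveI : Mono (ClSub.idealModι I) := inferInstanceAs (Mono (kernel.ι _))
    rw [← (Groth.L21.Mod.mono_iff_stalk_injective (ClSub.idealModι I)).1 inferInstance x hti]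
    exact (st_twπ_smul D hV hxV he d).2 hd
  haveI : Epi g := by
    haveI : Epi (ClSub.toSubscheme (I * D) ≫ g) := by rw [hg]; exact epi_toSubscheme I
    exact epi_of_epi (ClSub.toSubscheme (I * D)) g
  refine ⟨f, g, w, { exact := ?_, mono_f := inferInstance, epi_g := inferInstance }, hg⟩
  refine (Groth.L21.Mod.exact_iff_stalk _).2 fun x => ?_
  rw [ShortComplex.ab_exact_iff]
  intro y hy
  obtain ⟨u, rfl⟩ := hsurjJ x y
  obtain ⟨r, rfl⟩ := (bijective_smul_one x).2 u
  obtain ⟨V, hV, hxV, e, t, he, hte, hI'⟩ := key x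
  have h1 : st g x (st (ClSub.toSubscheme (I * D)) x (r • one X x)) = 0 := hy
  rw [← st_comp, hg, st_toSubscheme_smul_one I hV hxV, hI', Ideal.mem_span_singleton'] at h1
  obtain ⟨a, ha⟩ := h1
  refine ⟨st (twπ M D) x (a • e), ?_⟩
  show st f x _ = st (ClSub.toSubscheme (I * D)) x (r • one X x)
  rw [hfv, map_smul, hte, smul_smul, ha]

end Groth.L05.EulerDiv
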